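import Groth.Agent.GoingDown.Algebra
import Groth.Agent.DvrDom.Spread
import Groth.Prelude.Def_EGA43
import Mathlib.AlgebraicGeometry.Noetherian
import Mathlib.AlgebraicGeometry.PullbackCarrier

/-!
# Universal openness at a point by discrete valuation rings
-/

universe u

open CategoryTheory AlgebraicGeometry IsLocalRing Limits TensorProduct

namespace Groth.Agent.GoingDown

variable {A B : Type u} [CommRing A] [CommRing B] [Algebra A B]

theorem exists_generisation_of_dvr [IsNoetherianRing A] {D : Type u} [CommRing D] [Algebra A D]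
    (p : Ideal (D ⊗[A] B)) [p.IsPrime]
    (H : ∀ (R : Type u) [CommRing R] [IsDomain R] [IsDiscreteValuationRing R] [Algebra A R]
      (P : Ideal (R ⊗[A] B)), P.IsPrime → P.comap (algebraMap R (R ⊗[A] B)) = maximalIdeal R →
      P.comap (Algebra.TensorProduct.includeRight : B →ₐ[A] R ⊗[A] B) =
        p.comap (Algebra.TensorProduct.includeRight : B →ₐ[A] D ⊗[A] B) →
      ∃ P' : Ideal (R ⊗[A] B), P'.IsPrime ∧ P' ≤ P ∧ P'.comap (algebraMap R (R ⊗[A] B)) = ⊥)
    (q₀ : Ideal D) [q₀.IsPrime] (hq₀ : q₀ ≤ p.comap (algebraMap D (D ⊗[A] B))) :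
    ∃ P : Ideal (D ⊗[A] B), P.IsPrime ∧ P ≤ p ∧ P.comap (algebraMap D (D ⊗[A] B)) = q₀ := by
  let q := p.comap (algebraMap D (D ⊗[A] B))
  have hker : RingHom.ker (Ideal.Quotient.mk q₀) ≤ q := by rw [Ideal.mk_ker]; exact hq₀
  let m : Ideal (D ⧸ q₀) := q.map (Ideal.Quotient.mk q₀)
  have : m.IsPrime := Ideal.map_isPrime_of_surjective Ideal.Quotient.mk_surjective hker
  have hm : m.comap (algebraMap D (D ⧸ q₀)) = q := by
    show m.comap (Ideal.Quotient.mk q₀) = q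
    rw [Ideal.comap_map_of_surjective _ Ideal.Quotient.mk_surjective, ← RingHom.ker_eq_comap_bot]
    exact sup_eq_left.mpr hker
  obtain ⟨pb, hpb, -, hpbp⟩ := exists_prime_tensor (B := B) p m hm
  let π := Algebra.TensorProduct.map (IsScalarTower.toAlgHom A D (D ⧸ q₀)) (AlgHom.id A B)
  by_contra hcon
  have hno : ¬ ∃ P : Ideal ((D ⧸ q₀) ⊗[A] B), P.IsPrime ∧ P ≤ pb ∧
      P.comap (algebraMap (D ⧸ q₀) ((D ⧸ q₀) ⊗[A] B)) = ⊥ := by
    rintro ⟨P, hP, hle, hbot⟩
    refine hcon ⟨P.comap π, Ideal.comap_isPrime π P, ?_, ?_⟩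
    · exact (Ideal.comap_mono hle).trans hpbp.le
    · ext d
      rw [Ideal.mem_comap, Ideal.mem_comap]
      have : π (algebraMap D (D ⊗[A] B) d) =
          algebraMap (D ⧸ q₀) ((D ⧸ q₀) ⊗[A] B) (Ideal.Quotient.mk q₀ d) := by
        show π (d ⊗ₜ 1) = _
        rw [Algebra.TensorProduct.map_tmul]
        rfl
      rw [this, ← Ideal.mem_comap, hbot, Ideal.mem_bot, Ideal.Quotient.eq_zero_iff_mem]
  obtain ⟨R, _, _, _, _, P, hP, hPm, hPB, hann⟩ :=
    exists_dvr_annihilated pb ((exists_annihilated_or_generisation pb).mpr hno)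
  refine (exists_annihilated_or_generisation P).mp hann (H R P hP hPm (hPB.trans ?_))
  rw [← hpbp]
  ext b
  simp [Ideal.mem_comap]

theorem image_basicOpen_mem_nhds [IsNoetherianRing A] [Algebra.FiniteType A B] {D : Type u}
    [CommRing D] [Algebra A D] (p : PrimeSpectrum (D ⊗[A] B))
    (H : ∀ q₀ : PrimeSpectrum D, q₀.asIdeal ≤ p.asIdeal.comap (algebraMap D (D ⊗[A] B)) →
      ∃ P : Ideal (D ⊗[A] B), P.IsPrime ∧ P ≤ p.asIdeal ∧
        P.comap (algebraMap D (D ⊗[A] B)) = q₀.asIdeal)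
    {s : D ⊗[A] B} (hs : s ∉ p.asIdeal) :
    PrimeSpectrum.comap (algebraMap D (D ⊗[A] B)) '' (PrimeSpectrum.basicOpen s) ∈
      nhds (PrimeSpectrum.comap (algebraMap D (D ⊗[A] B)) p) := by
  have : Algebra.FinitePresentation A B := Algebra.FinitePresentation.of_finiteType.mp inferInstance
  refine mem_nhds_of_isConstructible (PrimeSpectrum.isConstructible_comap_image
    (RingHom.finitePresentation_algebraMap.mpr inferInstance) PrimeSpectrum.isConstructible_basicOpen) ?_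
  intro q₀ hq₀
  obtain ⟨P, hP, hle, hPq⟩ := H q₀ hq₀
  exact ⟨⟨P, hP⟩, fun hsP ↦ hs (hle hsP), PrimeSpectrum.ext hPq⟩

variable {X Y Y' : Scheme.{u}} {f : X ⟶ Y} {g : Y' ⟶ Y}

/-- The affine chart of a fibre product. -/
theorem exists_chart {D : Type u} [CommRing D] [Algebra A D] (a : Spec (CommRingCat.of B) ⟶ X)
    [IsOpenImmersion a] (b : Spec (CommRingCat.of A) ⟶ Y) [IsOpenImmersion b]
    (v : Spec (CommRingCat.of D) ⟶ Y') [IsOpenImmersion v]
    (ha : a ≫ f = Spec.map (CommRingCat.ofHom (algebraMap A B)) ≫ b)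
    (hv : v ≫ g = Spec.map (CommRingCat.ofHom (algebraMap A D)) ≫ b) :
    ∃ j : Spec (CommRingCat.of (D ⊗[A] B)) ⟶ pullback f g, IsOpenImmersion j ∧
      j ≫ pullback.fst f g = Spec.map (CommRingCat.ofHom
        (Algebra.TensorProduct.includeRight (R := A) (A := D) (B := B)).toRingHom) ≫ a ∧
      j ≫ pullback.snd f g = Spec.map (CommRingCat.ofHom (algebraMap D (D ⊗[A] B))) ≫ v ∧
      Set.range j = pullback.fst f g ⁻¹' Set.range a ∩ pullback.snd f g ⁻¹' Set.range v := by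
  refine ⟨(pullbackSpecIso A D B).inv ≫ (pullbackSymmetry _ _).hom ≫
    pullback.map _ _ f g a v b ha.symm hv.symm, inferInstance, ?_, ?_, ?_⟩
  · rw [Category.assoc, Category.assoc, pullback.lift_fst, pullbackSymmetry_hom_comp_fst_assoc,
      ← Category.assoc, pullbackSpecIso_inv_snd]
    rfl
  · rw [Category.assoc, Category.assoc, pullback.lift_snd, pullbackSymmetry_hom_comp_snd_assoc,
      ← Category.assoc, pullbackSpecIso_inv_fst']
  · rw [← Category.assoc, Scheme.Hom.comp_base, TopCat.coe_comp,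
      Set.range_comp, Set.range_eq_univ.mpr, Set.image_univ, Scheme.Pullback.range_map]
    exact ((pullbackSpecIso A D B).inv ≫ (pullbackSymmetry _ _).hom).homeomorph.surjective

variable [LocallyOfFiniteType f]

/-- The condition on discrete valuation rings. -/
def DvrGoingDown (f : X ⟶ Y) (x : X) : Prop :=
  ∀ (A : Type u) [CommRing A] [IsDomain A] [IsDiscreteValuationRing A]
    (g : Spec (CommRingCat.of A) ⟶ Y), g (closedPoint A) = f x →
    ∀ x' : ↥(pullback f g), pullback.fst f g x' = x → pullback.snd f g x' = closedPoint A →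
      ∃ z' : ↥(pullback f g), z' ⤳ x' ∧ pullback.snd f g z' ≠ closedPoint A

theorem isUnivOpenAt_of_dvrGoingDown [IsLocallyNoetherian Y] (x : X) (H : DvrGoingDown f x) :
    EGA43.IsUnivOpenAt f x := by
  intro Y' g x' hx' U hU
  obtain ⟨SV, hSV, hyV, -⟩ := Y.isBasis_affineOpens.exists_subset_of_mem_open
    (Set.mem_univ (f x)) isOpen_univ
  obtain ⟨V, hV, rfl⟩ : ∃ U : Y.Opens, IsAffineOpen U ∧ (U : Set Y) = SV := hSV
  obtain ⟨SW, hSW, hxW, hWV⟩ := X.isBasis_affineOpens.exists_subset_of_mem_open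
    (show x ∈ f ⁻¹ᵁ V from hyV) (f ⁻¹ᵁ V).2
  obtain ⟨W, hW, rfl⟩ : ∃ U : X.Opens, IsAffineOpen U ∧ (U : Set X) = SW := hSW
  have hy'V : pullback.snd f g x' ∈ g ⁻¹ᵁ V := by
    show g (pullback.snd f g x') ∈ V
    rw [← Scheme.Hom.comp_apply, ← pullback.condition, Scheme.Hom.comp_apply, hx']
    exact hyV
  obtain ⟨SV', hSV', hy'V', hV'V⟩ := Y'.isBasis_affineOpens.exists_subset_of_mem_open
    hy'V (g ⁻¹ᵁ V).2
  obtain ⟨V', hV', rfl⟩ : ∃ U : Y'.Opens, IsAffineOpen U ∧ (U : Set Y') = SV' := hSV'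
  have : IsNoetherianRing Γ(Y, V) := IsLocallyNoetherian.component_noetherian ⟨V, hV⟩
  let := (f.appLE V W hWV).hom.toAlgebra
  let := (g.appLE V V' hV'V).hom.toAlgebra
  have hft : Algebra.FiniteType Γ(Y, V) Γ(X, W) :=
    LocallyOfFiniteType.finiteType_appLE f hV hW hWV
  obtain ⟨j, hj, hjfst, hjsnd, hjr⟩ := exists_chart (f := f) (g := g) (A := Γ(Y, V))
    (B := Γ(X, W)) (D := Γ(Y', V')) hW.fromSpec hV.fromSpec hV'.fromSpec
    (IsAffineOpen.SpecMap_appLE_fromSpec f hV hW hWV).symm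
    (IsAffineOpen.SpecMap_appLE_fromSpec g hV hV' hV'V).symm
  obtain ⟨p, rfl⟩ : x' ∈ Set.range j := by
    rw [hjr, hW.range_fromSpec, hV'.range_fromSpec]
    refine ⟨?_, hy'V'⟩
    show pullback.fst f g x' ∈ W
    rw [hx']; exact hxW
  obtain ⟨O, hOU, hO, hpO⟩ := mem_nhds_iff.mp hU
  obtain ⟨_, ⟨s, rfl⟩, hps, hsO⟩ := PrimeSpectrum.isTopologicalBasis_basic_opens.exists_subset_of_mem_open
    (show p ∈ j ⁻¹' O from hpO) (hO.preimage j.continuous)
  have hnb := image_basicOpen_mem_nhds (A := Γ(Y, V)) (B := Γ(X, W)) p (fun q₀ hq₀ ↦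
    exists_generisation_of_dvr p.asIdeal (fun R _ _ _ _ P hP hPm hPB ↦ by
      let g₁ : Spec (CommRingCat.of R) ⟶ Y :=
        Spec.map (CommRingCat.ofHom (algebraMap Γ(Y, V) R)) ≫ hV.fromSpec
      obtain ⟨j₁, hj₁, hj₁fst, hj₁snd, hj₁r⟩ := exists_chart (f := f) (g := g₁) (A := Γ(Y, V))
        (B := Γ(X, W)) (D := R) hW.fromSpec hV.fromSpec (𝟙 _)
        (IsAffineOpen.SpecMap_appLE_fromSpec f hV hW hWV).symm (Category.id_comp _)
      let P₁ : Spec (CommRingCat.of (R ⊗[Γ(Y, V)] Γ(X, W))) := ⟨P, hP⟩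
      have h2 : pullback.snd f g₁ (j₁ P₁) = closedPoint R := by
        rw [← Scheme.Hom.comp_apply, hj₁snd, Category.comp_id]
        exact PrimeSpectrum.ext hPm
      have h1 : pullback.fst f g₁ (j₁ P₁) = x := by
        rw [← hx', ← Scheme.Hom.comp_apply, ← Scheme.Hom.comp_apply j (pullback.fst f g), hj₁fst,
          hjfst, Scheme.Hom.comp_apply, Scheme.Hom.comp_apply]
        exact congrArg hW.fromSpec (PrimeSpectrum.ext hPB)
      obtain ⟨z, hz, hzc⟩ := H R g₁ (by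
        rw [← h1, ← h2, ← Scheme.Hom.comp_apply, ← Scheme.Hom.comp_apply (pullback.fst f g₁) f,
          pullback.condition]) _ h1 h2
      obtain ⟨P', rfl⟩ : z ∈ Set.range j₁ :=
        hz.mem_open j₁.isOpenEmbedding.isOpen_range ⟨P₁, rfl⟩
      have hle : P' ⤳ P₁ := j₁.isOpenEmbedding.isInducing.specializes_iff.mp hz
      refine ⟨P'.asIdeal, P'.isPrime, (PrimeSpectrum.le_iff_specializes _ _).mpr hle, ?_⟩
      by_contra hne
      refine hzc ?_
      rw [← Scheme.Hom.comp_apply, hj₁snd, Category.comp_id]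
      exact PrimeSpectrum.ext
        (IsLocalRing.eq_maximalIdeal (IsPrime.to_maximal_ideal hne)))
      q₀.asIdeal hq₀) hps
  have key : pullback.snd f g (j p) =
      hV'.fromSpec (PrimeSpectrum.comap (algebraMap Γ(Y', V') _) p) := by
    rw [← Scheme.Hom.comp_apply, hjsnd]
    exact Scheme.Hom.comp_apply _ _ _
  rw [key]
  refine Filter.mem_of_superset
    (hV'.fromSpec.isOpenEmbedding.isOpenMap.image_mem_nhds hnb) ?_
  rintro _ ⟨_, ⟨Q, hQ, rfl⟩, rfl⟩
  refine ⟨j Q, hOU (hsO hQ), ?_⟩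
  rw [← Scheme.Hom.comp_apply, hjsnd]
  exact Scheme.Hom.comp_apply _ _ _

omit [LocallyOfFiniteType f] in
theorem dvrGoingDown_of_isUnivOpenAt (x : X) (H : EGA43.IsUnivOpenAt f x) : DvrGoingDown f x := by
  intro R _ _ _ g hg x' hx' hx'c
  obtain ⟨SV, hSV, hyV, -⟩ := Y.isBasis_affineOpens.exists_subset_of_mem_open
    (Set.mem_univ (f x)) isOpen_univ
  obtain ⟨V, hV, rfl⟩ : ∃ U : Y.Opens, IsAffineOpen U ∧ (U : Set Y) = SV := hSV
  obtain ⟨SW, hSW, hxW, hWV⟩ := X.isBasis_affineOpens.exists_subset_of_mem_open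
    (show x ∈ f ⁻¹ᵁ V from hyV) (f ⁻¹ᵁ V).2
  obtain ⟨W, hW, rfl⟩ : ∃ U : X.Opens, IsAffineOpen U ∧ (U : Set X) = SW := hSW
  have hgr : Set.range g ⊆ (V : Set Y) :=
    DvrDom.range_subset_of_closedPoint_mem g (hg.symm ▸ hyV)
  let φ := DvrDom.pointHom hV g hgr
  let := φ.hom.toAlgebra
  let := (f.appLE V W hWV).hom.toAlgebra
  obtain ⟨j, hj, hjfst, hjsnd, hjr⟩ := exists_chart (f := f) (g := g) (A := Γ(Y, V))
    (B := Γ(X, W)) (D := R) hW.fromSpec hV.fromSpec (𝟙 _)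
    (IsAffineOpen.SpecMap_appLE_fromSpec f hV hW hWV).symm
    ((Category.id_comp _).trans (DvrDom.SpecMap_pointHom hV g hgr).symm)
  obtain ⟨p, rfl⟩ : x' ∈ Set.range j := by
    rw [hjr, hW.range_fromSpec]
    refine ⟨?_, ⟨_, rfl⟩⟩
    show pullback.fst f g x' ∈ W
    rw [hx']; exact hxW
  have hgen : ∃ P : Ideal (R ⊗[Γ(Y, V)] Γ(X, W)), P.IsPrime ∧ P ≤ p.asIdeal ∧
      P.comap (algebraMap R (R ⊗[Γ(Y, V)] Γ(X, W))) = ⊥ := by
    by_contra hno
    obtain ⟨h, hh, c, hc, hch⟩ := (exists_annihilated_or_generisation p.asIdeal).mpr hno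
    have hmem : j '' (PrimeSpectrum.basicOpen h : Set (PrimeSpectrum _)) ∈ nhds (j p) :=
      j.isOpenEmbedding.isOpenMap.image_mem_nhds ((PrimeSpectrum.basicOpen h).2.mem_nhds hh)
    obtain ⟨N, hN, hNo, hcN⟩ := mem_nhds_iff.mp (H _ g (j p) hx' _ hmem)
    rw [hx'c] at hcN
    let η : Spec (CommRingCat.of R) := (⟨⊥, Ideal.isPrime_bot⟩ : PrimeSpectrum R)
    obtain ⟨_, ⟨Q, hQ, rfl⟩, hQη⟩ := hN ((specializes_closedPoint η).mem_open hNo hcN)
    rw [← Scheme.Hom.comp_apply, hjsnd, Category.comp_id] at hQη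
    exact hQ (((Ideal.IsPrime.mem_or_mem Q.isPrime (hch ▸ Q.asIdeal.zero_mem))).resolve_left fun hcQ ↦
      hc (by
        have : c ∈ (PrimeSpectrum.comap (algebraMap R _) Q).asIdeal := hcQ
        rw [show PrimeSpectrum.comap (algebraMap R _) Q = (⟨⊥, Ideal.isPrime_bot⟩ : PrimeSpectrum R)
          from hQη, Ideal.mem_bot] at this
        exact this))
  obtain ⟨P, hP, hle, hbot⟩ := hgen
  let z : Spec (CommRingCat.of (R ⊗[Γ(Y, V)] Γ(X, W))) := ⟨P, hP⟩
  refine ⟨j z, ((PrimeSpectrum.le_iff_specializes _ _).mp hle : z ⤳ p).map j.continuous, fun hzc ↦ ?_⟩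
  rw [← Scheme.Hom.comp_apply, hjsnd, Category.comp_id] at hzc
  have : (maximalIdeal R : Ideal R) = ⊥ := (congrArg PrimeSpectrum.asIdeal hzc).symm.trans hbot
  exact IsDiscreteValuationRing.not_a_field R this

end Groth.Agent.GoingDown
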