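import Groth.Agent.DvrDom.ClosedProper
import Groth.Agent.RegLoc.Order
import Mathlib

/-!
# Flatness and universal openness over one-dimensional regular bases
-/

universe u

open CategoryTheory AlgebraicGeometry IsLocalRing Limits

namespace Groth.Agent.GoingDown

variable {X Y : Scheme.{u}}

/-- A point with no other generisation. -/
def IsMaximalPt (ξ : X) : Prop := ∀ w, w ⤳ ξ → w = ξ

theorem isMaximalPt_genericPoint {Z : Set X} (hZ : Z ∈ irreducibleComponents X) {ξ : X} (h : IsGenericPoint ξ Z) :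
    IsMaximalPt ξ := by
  intro w hw
  have hle : Z ⊆ closure {w} := fun z hz ↦ specializes_iff_mem_closure.mp (hw.trans (h.specializes hz))
  have heq : closure {w} = Z := le_antisymm (hZ.2 isIrreducible_singleton.closure hle) hle
  exact IsGenericPoint.eq (heq : IsGenericPoint w Z) h

theorem closure_mem_irreducibleComponents {ξ : X} (h : IsMaximalPt ξ) :
    closure {ξ} ∈ irreducibleComponents X := by
  have hgen := (isIrreducible_irreducibleComponent (x := ξ)).isGenericPoint_genericPoint isClosed_irreducibleComponent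
  have := h _ (hgen.specializes mem_irreducibleComponent)
  rw [show closure {ξ} = irreducibleComponent ξ from (congrArg (fun w ↦ closure {w}) this).symm.trans hgen.def]
  exact irreducibleComponent_mem_irreducibleComponents ξ

theorem exists_maximalPt_specializes (x : X) : ∃ ξ, IsMaximalPt ξ ∧ ξ ⤳ x := by
  have hgen := (isIrreducible_irreducibleComponent (x := x)).isGenericPoint_genericPoint isClosed_irreducibleComponent
  exact ⟨_, isMaximalPt_genericPoint (irreducibleComponent_mem_irreducibleComponents x) hgen,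
    hgen.specializes mem_irreducibleComponent⟩

theorem isPrincipalIdealRing_of_regular {R : Type u} [CommRing R] [IsRegularLocalRing R]
    (h : ringKrullDim R ≤ 1) : ∃ _ : IsDomain R, IsPrincipalIdealRing R := by
  have : IsDomain R := Groth.Agent.RegLoc.isDomain _
  have hd1 : Module.finrank (ResidueField R) (CotangentSpace R) ≤ 1 := by
    have h1 := (IsRegularLocalRing.iff_finrank_cotangentSpace R).mp inferInstance
    rw [← h1] at h
    exact_mod_cast h
  exact ⟨this, ((tfae_of_isNoetherianRing_of_isLocalRing_of_isDomain R).out 5 0).mp hd1⟩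

/-- A reduced scheme whose components dominate a one-dimensional regular base is flat over it. -/
theorem flat_stalkMap_of_maximal (f : X ⟶ Y) (x : X) [IsReduced X] [IsDomain (Y.presheaf.stalk (f x))]
    [IsPrincipalIdealRing (Y.presheaf.stalk (f x))]
    (h : ∀ ξ, IsMaximalPt ξ → ξ ⤳ x → IsMaximalPt (f ξ)) : (f.stalkMap x).hom.Flat := by
  algebraize [(f.stalkMap x).hom]
  refine Module.Flat.flat_iff_torsion_eq_bot_of_isBezout.mpr ((Submodule.eq_bot_iff _).mpr fun z hz ↦ ?_)
  obtain ⟨⟨a, ha⟩, haz⟩ := hz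
  change a • z = 0 at haz
  rw [Algebra.smul_def] at haz
  by_contra hz0
  obtain ⟨P, hP, hzP⟩ : ∃ P ∈ minimalPrimes (X.presheaf.stalk x), z ∉ P := by
    by_contra hc
    push Not at hc
    refine hz0 ?_
    have : z ∈ sInf ((⊥ : Ideal (X.presheaf.stalk x)).minimalPrimes) := Submodule.mem_sInf.mpr fun Q hQ ↦ hc Q hQ
    rw [Ideal.sInf_minimalPrimes] at this
    change z ∈ nilradical (X.presheaf.stalk x) at this
    rwa [nilradical_eq_zero, ← Ideal.zero_eq_bot.symm, Ideal.mem_bot] at this
  have hPp : P.IsPrime := hP.1.1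
  let p : Spec (X.presheaf.stalk x) := ⟨P, hPp⟩
  let ξ := X.fromSpecStalk x p
  have hξx : ξ ⤳ x := by
    have : ξ ∈ Set.range (X.fromSpecStalk x) := ⟨p, rfl⟩
    rwa [Scheme.range_fromSpecStalk] at this
  have hmax : IsMaximalPt ξ := by
    intro w hw
    obtain ⟨q, rfl⟩ : w ∈ Set.range (X.fromSpecStalk x) := by
      rw [Scheme.range_fromSpecStalk]; exact hw.trans hξx
    refine congrArg _ (PrimeSpectrum.ext ?_)
    have hle : q.asIdeal ≤ P := (PrimeSpectrum.le_iff_specializes q p).mpr
      ((X.fromSpecStalk x).isEmbedding.isInducing.specializes_iff.mp hw)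
    exact le_antisymm hle (hP.2 ⟨q.isPrime, bot_le⟩ hle)
  have haP : algebraMap _ (X.presheaf.stalk x) a ∈ P :=
    (hPp.mem_or_mem (haz ▸ P.zero_mem)).resolve_right hzP
  let p' : Spec (Y.presheaf.stalk (f x)) := Spec.map (f.stalkMap x) p
  have hfξ : f ξ = Y.fromSpecStalk (f x) p' :=
    (Scheme.Hom.comp_apply _ _ _).symm.trans
      ((congr($(Scheme.SpecMap_stalkMap_fromSpecStalk f (x := x)) p)).symm.trans (Scheme.Hom.comp_apply _ _ _))
  let b : Spec (Y.presheaf.stalk (f x)) := (⟨⊥, Ideal.isPrime_bot⟩ : PrimeSpectrum (Y.presheaf.stalk (f x)))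
  have hb : b = p' := (Y.fromSpecStalk (f x)).isEmbedding.injective <| by
    rw [← hfξ]
    refine h ξ hmax hξx _ ?_
    rw [hfξ]
    exact ((PrimeSpectrum.le_iff_specializes b p').mp bot_le).map (Y.fromSpecStalk (f x)).continuous
  have : a ∈ (⊥ : Ideal (Y.presheaf.stalk (f x))) := by
    have h1 : a ∈ p'.asIdeal := haP
    rwa [← hb] at h1
  rw [Ideal.mem_bot] at this
  exact mem_nonZeroDivisors_iff_ne_zero.mp ha this

/-- Universal openness descends along a surjection. -/
theorem universallyOpen_of_comp_surjective {Z : Scheme.{u}} (f : X ⟶ Y) (g : Y ⟶ Z)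
    [hfg : UniversallyOpen (f ≫ g)] [Surjective f] : UniversallyOpen g := by
  refine ⟨fun X' Y' i₁ i₂ f' H ↦ ?_⟩
  have := UniversallyOpen.universally_isOpenMap _ _ _ ((IsPullback.of_hasPullback i₁ f).paste_horiz H)
  exact IsOpenMap.of_comp (Scheme.Hom.continuous _)
    (MorphismProperty.pullback_fst (P := @Surjective) i₁ f ‹_›).1 this

/-- The maximal points of an open of a Noetherian affine are finite in number. -/
theorem finite_maximalPt_of_isAffineOpen [IsLocallyNoetherian X] {A : X.Opens} (hA : IsAffineOpen A) :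
    {ξ : X | ξ ∈ A ∧ IsMaximalPt ξ}.Finite := by
  have : IsNoetherianRing Γ(X, A) := IsLocallyNoetherian.component_noetherian ⟨A, hA⟩
  refine ((minimalPrimes.finite_of_isNoetherianRing Γ(X, A)).preimage
    (f := fun p : PrimeSpectrum Γ(X, A) ↦ p.asIdeal) (fun a _ b _ h ↦ PrimeSpectrum.ext h)).image hA.fromSpec |>.subset ?_
  rintro ξ ⟨hξA, hξ⟩
  obtain ⟨p, rfl⟩ : ξ ∈ Set.range hA.fromSpec := by rw [hA.range_fromSpec]; exact hξA
  refine ⟨p, ⟨⟨p.isPrime, bot_le⟩, fun Q hQ hle ↦ ?_⟩, rfl⟩
  have : Q.IsPrime := hQ.1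
  let q : Spec Γ(X, A) := (⟨Q, hQ.1⟩ : PrimeSpectrum Γ(X, A))
  have h1 := hξ _ (((PrimeSpectrum.le_iff_specializes q p).mp hle).map hA.fromSpec.continuous)
  have h2 : q = p := hA.fromSpec.isOpenEmbedding.injective h1
  exact (congrArg PrimeSpectrum.asIdeal h2).ge

end Groth.Agent.GoingDown
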