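import Groth.Agent.DvrDom.Basic
import Mathlib.RingTheory.TensorProduct.DirectLimitFG
import Mathlib.RingTheory.Spectrum.Prime.ConstructibleSet
import Mathlib.RingTheory.Spectrum.Prime.Chevalley
import Mathlib.RingTheory.TensorProduct.Quotient
import Mathlib.RingTheory.Ideal.MinimalPrime.Localization
import Mathlib.RingTheory.FiniteStability
import Mathlib.RingTheory.LocalRing.ResidueField.Ideal

/-!
# Going down in a base change, tested on discrete valuation rings

EGA IV 14.5: over a Noetherian base, going down in all base changes can be tested on discrete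
valuation rings.
-/

universe u

open TensorProduct IsLocalRing

namespace Groth.Agent.GoingDown

/-- `p` has a generisation lying over the zero ideal unless some `h ∉ p` is killed by a nonzero
element of the base. -/
theorem exists_annihilated_or_generisation {D C : Type u} [CommRing D] [IsDomain D] [CommRing C]
    [Algebra D C] (p : Ideal C) [p.IsPrime] :
    (∃ h ∉ p, ∃ c : D, c ≠ 0 ∧ algebraMap D C c * h = 0) ↔
      ¬ ∃ P : Ideal C, P.IsPrime ∧ P ≤ p ∧ P.comap (algebraMap D C) = ⊥ := by
  constructor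
  · rintro ⟨h, hh, c, hc, hch⟩ ⟨P, hP, hle, hbot⟩
    have hc' : algebraMap D C c ∉ P := fun hm ↦ hc (by
      have : c ∈ P.comap (algebraMap D C) := hm
      rwa [hbot, Ideal.mem_bot] at this)
    exact hh (hle ((hP.mem_or_mem (hch ▸ P.zero_mem)).resolve_left hc'))
  · intro hno
    let S : Submonoid C := p.primeCompl ⊔ (nonZeroDivisors D).map (algebraMap D C)
    by_cases h0 : (0 : C) ∈ S
    · obtain ⟨h, hh, _, ⟨c, hc, rfl⟩, heq⟩ := Submonoid.mem_sup.mp h0
      exact ⟨h, hh, c, nonZeroDivisors.ne_zero hc, by rw [mul_comm]; exact heq⟩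
    · exfalso
      obtain ⟨P, hP, -, hdisj⟩ := Ideal.exists_le_prime_disjoint (⊥ : Ideal C) S (by
        rw [Set.disjoint_left]
        rintro x hx hxS
        rw [SetLike.mem_coe, Ideal.mem_bot] at hx
        exact h0 (hx ▸ hxS))
      refine hno ⟨P, hP, fun x hx ↦ by_contra fun hxp ↦ ?_, (Submodule.eq_bot_iff _).mpr fun c hc ↦ ?_⟩
      · exact Set.disjoint_left.mp hdisj hx (Submonoid.mem_sup_left hxp)
      · by_contra hc0
        exact Set.disjoint_left.mp hdisj hc
          (Submonoid.mem_sup_right ⟨c, mem_nonZeroDivisors_of_ne_zero hc0, rfl⟩)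

/-- A constructible set containing all generisations of a point is a neighbourhood of it. -/
theorem mem_nhds_of_isConstructible {R : Type u} [CommRing R] {s : Set (PrimeSpectrum R)}
    (hs : Topology.IsConstructible s) {q : PrimeSpectrum R}
    (h : ∀ q₀ : PrimeSpectrum R, q₀.asIdeal ≤ q.asIdeal → q₀ ∈ s) : s ∈ nhds q := by
  obtain ⟨S, _, f, hf⟩ := PrimeSpectrum.exists_range_eq_of_isConstructible hs.compl
  have hq : q ∉ closure sᶜ := fun hq ↦ by
    rw [← hf, PrimeSpectrum.closure_range_comap] at hq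
    obtain ⟨q₀, hq₀, hle⟩ := Ideal.exists_minimalPrimes_le (J := q.asIdeal) hq
    obtain ⟨P, hP, -, hPq⟩ := Ideal.exists_comap_eq_of_mem_minimalPrimes f (I := ⊥) q₀
      (by rw [← RingHom.ker_eq_comap_bot]; exact hq₀)
    have : PrimeSpectrum.comap f ⟨P, hP⟩ ∈ sᶜ := hf ▸ ⟨_, rfl⟩
    exact this (h _ (hPq.le.trans hle))
  rw [closure_compl, Set.notMem_compl_iff] at hq
  exact mem_interior_iff_mem_nhds.mp hq

variable {A B : Type u} [CommRing A] [CommRing B] [Algebra A B]

/-- Two primes of the factors with the same trace lift to the tensor product. -/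
theorem exists_prime_tensor {D R : Type u} [CommRing D] [CommRing R] [Algebra A D] [Algebra A R]
    [Algebra D R] [IsScalarTower A D R] (p : Ideal (D ⊗[A] B)) [p.IsPrime] (m : Ideal R) [m.IsPrime]
    (h : m.comap (algebraMap D R) = p.comap (algebraMap D (D ⊗[A] B))) :
    ∃ P : Ideal (R ⊗[A] B), P.IsPrime ∧ P.comap (algebraMap R (R ⊗[A] B)) = m ∧
      P.comap (Algebra.TensorProduct.map (IsScalarTower.toAlgHom A D R) (AlgHom.id A B)) = p := by
  let q := p.comap (algebraMap D (D ⊗[A] B))
  let k := q.ResidueField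
  let ι₁ : k →+* p.ResidueField := Ideal.ResidueField.map q p (algebraMap D _) rfl
  let ι₂ : k →+* m.ResidueField := Ideal.ResidueField.map q m (algebraMap D R) h.symm
  algebraize [ι₁, ι₂]
  have : Nontrivial (p.ResidueField ⊗[k] m.ResidueField) :=
    Module.FaithfullyFlat.lTensor_nontrivial _ _ _
  obtain ⟨M, hM⟩ := Ideal.exists_maximal (p.ResidueField ⊗[k] m.ResidueField)
  let Ω := (p.ResidueField ⊗[k] m.ResidueField) ⧸ M
  let u₁ : p.ResidueField →+* Ω :=
    (Ideal.Quotient.mk M).comp Algebra.TensorProduct.includeLeftRingHom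
  let u₂ : m.ResidueField →+* Ω :=
    (Ideal.Quotient.mk M).comp (Algebra.TensorProduct.includeRight (R := k) (A := p.ResidueField)).toRingHom
  have hu : ∀ z : k, u₁ (ι₁ z) = u₂ (ι₂ z) := fun z ↦ by
    show Ideal.Quotient.mk M (algebraMap k p.ResidueField z ⊗ₜ 1) =
      Ideal.Quotient.mk M (1 ⊗ₜ algebraMap k m.ResidueField z)
    rw [← Algebra.TensorProduct.tmul_one_eq_one_tmul]
  have hD : ∀ d : D, u₁ (algebraMap _ p.ResidueField (algebraMap D (D ⊗[A] B) d)) =
      u₂ (algebraMap R m.ResidueField (algebraMap D R d)) := fun d ↦ by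
    have := hu (algebraMap D k d)
    rwa [Ideal.ResidueField.map_algebraMap, Ideal.ResidueField.map_algebraMap] at this
  let eR : R →+* Ω := u₂.comp (algebraMap R m.ResidueField)
  let eC : D ⊗[A] B →+* Ω := u₁.comp (algebraMap (D ⊗[A] B) p.ResidueField)
  have hA : ∀ a, eC (algebraMap A (D ⊗[A] B) a) = algebraMap A Ω a := fun a ↦ by
    show u₁ _ = _
    rw [← IsScalarTower.algebraMap_apply A (D ⊗[A] B) p.ResidueField]
    rfl
  have hA' : ∀ a, eR (algebraMap A R a) = algebraMap A Ω a := fun a ↦ by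
    refine Eq.trans ?_ (hA a)
    rw [IsScalarTower.algebraMap_apply A D (D ⊗[A] B), IsScalarTower.algebraMap_apply A D R]
    exact (hD _).symm
  let aR : R →ₐ[A] Ω := { eR with commutes' := hA' }
  let aB : B →ₐ[A] Ω :=
    { eC.comp (Algebra.TensorProduct.includeRight (R := A) (A := D)).toRingHom with
      commutes' := fun a ↦ by
        show eC (Algebra.TensorProduct.includeRight (algebraMap A B a)) = _
        rw [AlgHom.commutes]; exact hA a }
  let φ : R ⊗[A] B →ₐ[A] Ω := Algebra.TensorProduct.lift aR aB fun _ _ ↦ Commute.all _ _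
  have hinj₁ : Function.Injective u₁ := u₁.injective
  have hinj₂ : Function.Injective u₂ := u₂.injective
  refine ⟨RingHom.ker φ.toRingHom, RingHom.ker_isPrime _, ?_, ?_⟩
  · ext r
    rw [Ideal.mem_comap, RingHom.mem_ker]
    show φ (r ⊗ₜ 1) = 0 ↔ _
    rw [Algebra.TensorProduct.lift_tmul, map_one, mul_one]
    show u₂ _ = 0 ↔ _
    rw [map_eq_zero_iff _ hinj₂, Ideal.algebraMap_residueField_eq_zero]
  · have key : ∀ z, φ (Algebra.TensorProduct.map (IsScalarTower.toAlgHom A D R) (AlgHom.id A B) z) = eC z := by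
      intro z
      induction z using TensorProduct.induction_on with
      | zero => simp
      | add a b ha hb => rw [map_add, map_add, map_add, ha, hb]
      | tmul d b =>
        rw [Algebra.TensorProduct.map_tmul, Algebra.TensorProduct.lift_tmul]
        have : d ⊗ₜ[A] b = algebraMap D (D ⊗[A] B) d * (1 ⊗ₜ b) := by simp
        rw [this, map_mul]
        show eR (algebraMap D R d) * aB b = _
        congr 1
        exact (hD d).symm
    ext z
    rw [Ideal.mem_comap, RingHom.mem_ker]
    show φ _ = 0 ↔ _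
    rw [key]
    show u₁ _ = 0 ↔ _
    rw [map_eq_zero_iff _ hinj₁, Ideal.algebraMap_residueField_eq_zero]

/-- A nonzero prime of a Noetherian domain is the centre of a discrete valuation ring. -/
theorem exists_dvr_over_prime {E : Type u} [CommRing E] [IsDomain E] [IsNoetherianRing E]
    (q : Ideal E) [q.IsPrime] (hq : q ≠ ⊥) :
    ∃ (R : Type u) (_ : CommRing R) (_ : IsDomain R) (_ : IsDiscreteValuationRing R) (ψ : E →+* R),
      Function.Injective ψ ∧ (maximalIdeal R).comap ψ = q := by
  let A₂ := Localization.AtPrime q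
  have : IsDomain A₂ := IsLocalization.isDomain_localization q.primeCompl_le_nonZeroDivisors
  have : IsNoetherianRing A₂ := IsLocalization.isNoetherianRing q.primeCompl A₂ inferInstance
  have hA₂ : ¬ IsField A₂ := fun hf ↦ hq ((Submodule.eq_bot_iff _).mpr fun c hcq ↦ by
    have h1 := (IsLocalization.AtPrime.to_map_mem_maximal_iff A₂ q c).mpr hcq
    rw [isField_iff_maximalIdeal_eq.mp hf, Ideal.mem_bot] at h1
    exact IsLocalization.injective A₂ q.primeCompl_le_nonZeroDivisors (h1.trans (map_zero _).symm))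
  obtain ⟨V, hV, hVmem, hVm⟩ := DvrDom.exists_dvr_dominating A₂ hA₂ (FractionRing A₂)
  refine ⟨V, inferInstance, inferInstance, hV,
    ((algebraMap A₂ (FractionRing A₂)).comp (algebraMap E A₂)).codRestrict V.toSubring fun d ↦ hVmem _,
    fun a b hab ↦ ?_, ?_⟩
  · exact IsLocalization.injective A₂ q.primeCompl_le_nonZeroDivisors
      (IsFractionRing.injective A₂ (FractionRing A₂) (congrArg Subtype.val hab))
  · ext d
    rw [Ideal.mem_comap]
    constructor
    · intro hd
      by_contra hdq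
      have hu : IsUnit (algebraMap E A₂ d) :=
        IsLocalization.map_units A₂ (⟨d, hdq⟩ : q.primeCompl)
      exact (mem_maximalIdeal _).mp hd
        (hu.map ((algebraMap A₂ (FractionRing A₂)).codRestrict V.toSubring hVmem))
    · intro hd
      exact (V.valuation_lt_one_iff _).mpr
        (hVm _ ((IsLocalization.AtPrime.to_map_mem_maximal_iff A₂ q d).mpr hd))

/-- Failure of going down over a domain descends to a discrete valuation ring. -/
theorem exists_dvr_annihilated [IsNoetherianRing A] {D : Type u} [CommRing D] [IsDomain D]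
    [Algebra A D] (p : Ideal (D ⊗[A] B)) [p.IsPrime]
    (hp : ∃ h ∉ p, ∃ c : D, c ≠ 0 ∧ algebraMap D (D ⊗[A] B) c * h = 0) :
    ∃ (R : Type u) (_ : CommRing R) (_ : IsDomain R) (_ : IsDiscreteValuationRing R) (_ : Algebra A R)
      (P : Ideal (R ⊗[A] B)), P.IsPrime ∧ P.comap (algebraMap R (R ⊗[A] B)) = maximalIdeal R ∧
      P.comap (Algebra.TensorProduct.includeRight : B →ₐ[A] R ⊗[A] B) =
        p.comap (Algebra.TensorProduct.includeRight : B →ₐ[A] D ⊗[A] B) ∧
      ∃ h ∉ P, ∃ c : R, c ≠ 0 ∧ algebraMap R (R ⊗[A] B) c * h = 0 := by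
  classical
  obtain ⟨h, hh, c, hc, hch⟩ := hp
  obtain ⟨D₀, hD₀, hmem⟩ := TensorProduct.Algebra.exists_of_fg h
  let D₁ : Subalgebra A D := D₀ ⊔ Algebra.adjoin A {c}
  have hD₁ : D₁.FG := hD₀.sup ⟨{c}, by simp⟩
  have hcD₁ : c ∈ D₁ := le_sup_right (a := D₀) (Algebra.subset_adjoin rfl)
  obtain ⟨h₁, hh₁⟩ : ∃ h₁ : D₁ ⊗[A] B, LinearMap.rTensor B D₁.val.toLinearMap h₁ = h := by
    obtain ⟨u, rfl⟩ := hmem
    refine ⟨LinearMap.rTensor B (Subalgebra.inclusion (le_sup_left (b := Algebra.adjoin A {c}))).toLinearMap u, ?_⟩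
    rw [← LinearMap.rTensor_comp_apply]
    rfl
  have hmap : ∀ (E : Subalgebra A D) (z : E ⊗[A] B),
      LinearMap.rTensor B E.val.toLinearMap z = Algebra.TensorProduct.map E.val (AlgHom.id A B) z := by
    intro E z
    induction z using TensorProduct.induction_on with
    | zero => simp
    | add a b ha hb => rw [map_add, map_add, ha, hb]
    | tmul d b => rfl
  let c₁ : D₁ := ⟨c, hcD₁⟩
  have hzero : LinearMap.rTensor B D₁.val.toLinearMap (algebraMap D₁ (D₁ ⊗[A] B) c₁ * h₁) =
      LinearMap.rTensor B D₁.val.toLinearMap 0 := by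
    rw [map_zero, hmap, map_mul, ← hmap D₁ h₁, hh₁]
    refine Eq.trans ?_ hch
    congr 1
  obtain ⟨D₂, hle, hD₂, hz⟩ := TensorProduct.Algebra.eq_of_fg_of_subtype_eq hD₁ hzero
  let incl := Algebra.TensorProduct.map (Subalgebra.inclusion hle) (AlgHom.id A B)
  have hincl : ∀ z, LinearMap.rTensor B (Subalgebra.inclusion hle).toLinearMap z = incl z := by
    intro z
    induction z using TensorProduct.induction_on with
    | zero => simp
    | add a b ha hb => rw [map_add, map_add, ha, hb]
    | tmul d b => rfl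
  rw [map_zero, hincl, map_mul] at hz
  let c₂ : D₂ := ⟨c, hle hcD₁⟩
  let h₂ : D₂ ⊗[A] B := incl h₁
  have hz₂ : algebraMap D₂ (D₂ ⊗[A] B) c₂ * h₂ = 0 := by
    refine Eq.trans ?_ hz
    congr 1
  let j := Algebra.TensorProduct.map D₂.val (AlgHom.id A B)
  have hjh : j h₂ = h := by
    rw [← hh₁, hmap]
    show j (incl h₁) = _
    have key : ∀ z : D₁ ⊗[A] B, j (incl z) = Algebra.TensorProduct.map D₁.val (AlgHom.id A B) z := by
      intro z
      induction z using TensorProduct.induction_on with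
      | zero => simp
      | add a b ha hb => simp only [map_add, ha, hb]
      | tmul d b => rfl
    exact key h₁
  let p₂ : Ideal (D₂ ⊗[A] B) := p.comap j
  have hh₂ : h₂ ∉ p₂ := fun hm ↦ hh (hjh ▸ hm)
  let q₂ : Ideal D₂ := p₂.comap (algebraMap D₂ (D₂ ⊗[A] B))
  have hcq : c₂ ∈ q₂ := (Ideal.IsPrime.mem_or_mem (I := p₂) inferInstance (hz₂ ▸ p₂.zero_mem)).resolve_right hh₂
  have : IsNoetherianRing D₂ := isNoetherianRing_of_fg hD₂
  have hc₂ : c₂ ≠ 0 := fun h0 ↦ hc (congrArg Subtype.val h0)
  obtain ⟨R, _, _, hR, ψ, hψinj, hψ'⟩ := exists_dvr_over_prime q₂ (fun hq ↦ hc₂ (by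
    rwa [hq, Ideal.mem_bot] at hcq))
  let algD : Algebra D₂ R := ψ.toAlgebra
  let algA : Algebra A R := (ψ.comp (algebraMap A D₂)).toAlgebra
  have : IsScalarTower A D₂ R := .of_algebraMap_eq fun _ ↦ rfl
  have hψ : (maximalIdeal R).comap (algebraMap D₂ R) = q₂ := hψ'
  obtain ⟨P, hP, hPm, hPp⟩ := exists_prime_tensor (B := B) p₂ (maximalIdeal R) hψ
  refine ⟨R, inferInstance, inferInstance, hR, algA, P, hP, hPm, ?_,
    Algebra.TensorProduct.map (IsScalarTower.toAlgHom A D₂ R) (AlgHom.id A B) h₂, ?_, ψ c₂, ?_, ?_⟩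
  · ext b
    simp only [Ideal.mem_comap]
    have h1 : (Algebra.TensorProduct.includeRight : B →ₐ[A] R ⊗[A] B) b =
        Algebra.TensorProduct.map (IsScalarTower.toAlgHom A D₂ R) (AlgHom.id A B)
          (Algebra.TensorProduct.includeRight b) := by simp
    rw [h1, ← Ideal.mem_comap (f := Algebra.TensorProduct.map (IsScalarTower.toAlgHom A D₂ R) (AlgHom.id A B)),
      hPp]
    show j (1 ⊗ₜ b) ∈ p ↔ _
    simp [j]
  · intro hm
    exact hh₂ (hPp ▸ hm : h₂ ∈ p₂)
  · exact fun h0 ↦ hc₂ (hψinj (h0.trans (map_zero ψ).symm))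
  · have := congrArg (Algebra.TensorProduct.map (IsScalarTower.toAlgHom A D₂ R) (AlgHom.id A B)) hz₂
    rw [map_mul, map_zero] at this
    refine Eq.trans ?_ this
    congr 1

end Groth.Agent.GoingDown
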