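import Groth.Prelude.Def_EGA43
import Mathlib

/-!
# Formal properties of universal openness at a point
-/

universe u w

open CategoryTheory AlgebraicGeometry Limits Filter Topology

namespace Groth.Agent.GoingDown

variable {X Y Z : Scheme.{u}}

/-- Universal openness at a point passes to base changes. -/
theorem isUnivOpenAt_of_isPullback {X' Y' : Scheme.{u}} {a : X' ⟶ X} {f' : X' ⟶ Y'} {f : X ⟶ Y} {g : Y' ⟶ Y}
    (H : IsPullback a f' f g) {x' : X'} (h : EGA43.IsUnivOpenAt f (a x')) : EGA43.IsUnivOpenAt f' x' := by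
  intro T z t ht U hU
  have H' := (IsPullback.of_hasPullback f' z).paste_horiz H
  let e := H'.isoPullback
  have he : e.hom ≫ pullback.snd f (z ≫ g) = pullback.snd f' z := H'.isoPullback_hom_snd
  have h2 := h T (z ≫ g) (e.hom t) (by
    rw [← Scheme.Hom.comp_apply, H'.isoPullback_hom_fst, Scheme.Hom.comp_apply]
    exact congrArg a ht) (e.hom '' U) (e.hom.homeomorph.isOpenMap.image_mem_nhds hU)
  have h3 : pullback.snd f (z ≫ g) (e.hom t) = pullback.snd f' z t := by rw [← Scheme.Hom.comp_apply, he]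
  rw [h3, ← Set.image_comp] at h2
  refine mem_of_superset h2 ?_
  rintro _ ⟨w, hw, rfl⟩
  exact ⟨w, hw, by rw [Function.comp_apply, ← Scheme.Hom.comp_apply, he]⟩

theorem isUnivOpenAt_comp (f : X ⟶ Y) (g : Y ⟶ Z) (x : X)
    (hf : EGA43.IsUnivOpenAt f x) (hg : EGA43.IsUnivOpenAt g (f x)) : EGA43.IsUnivOpenAt (f ≫ g) x := by
  intro Z' g' x' hx' U hU
  let e := pullbackRightPullbackFstIso g g' f
  have he : e.inv ≫ pullback.snd f (pullback.fst g g') ≫ pullback.snd g g' = pullback.snd (f ≫ g) g' := by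
    rw [pullbackRightPullbackFstIso_inv_snd_snd]
  have hw : pullback.fst f (pullback.fst g g') (e.inv x') = x := by
    rw [← Scheme.Hom.comp_apply, pullbackRightPullbackFstIso_inv_fst]; exact hx'
  have h1 := hf _ (pullback.fst g g') (e.inv x') hw (e.inv '' U) (e.inv.homeomorph.isOpenMap.image_mem_nhds hU)
  have hy : pullback.fst g g' (pullback.snd f (pullback.fst g g') (e.inv x')) = f x := by
    rw [← Scheme.Hom.comp_apply, ← pullback.condition, Scheme.Hom.comp_apply, hw]
  have h2 := hg _ g' _ hy _ h1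
  have h3 : pullback.snd g g' (pullback.snd f (pullback.fst g g') (e.inv x')) = pullback.snd (f ≫ g) g' x' := by
    rw [← he]; simp only [Scheme.Hom.comp_apply]
  rw [h3] at h2
  refine mem_of_superset h2 ?_
  rintro _ ⟨_, ⟨_, ⟨w, hw', rfl⟩, rfl⟩, rfl⟩
  exact ⟨w, hw', by rw [← he]; simp only [Scheme.Hom.comp_apply]⟩

theorem isUnivOpenAt_right_of_comp (f : X ⟶ Y) (g : Y ⟶ Z) (x : X)
    (h : EGA43.IsUnivOpenAt (f ≫ g) x) : EGA43.IsUnivOpenAt g (f x) := by
  intro Z' g' y' hy' V hV
  obtain ⟨t, ht1, ht2⟩ := Scheme.Pullback.exists_preimage_pullback (f := f) (g := pullback.fst g g') x y' hy'.symm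
  let e := pullbackRightPullbackFstIso g g' f
  have he : e.inv ≫ pullback.snd f (pullback.fst g g') ≫ pullback.snd g g' = pullback.snd (f ≫ g) g' := by
    rw [pullbackRightPullbackFstIso_inv_snd_snd]
  let c := e.inv ≫ pullback.snd f (pullback.fst g g')
  have het : e.inv (e.hom t) = t := by rw [← Scheme.Hom.comp_apply, Iso.hom_inv_id]; rfl
  have hct : c (e.hom t) = y' := by rw [Scheme.Hom.comp_apply, het, ht2]
  have h1 := h Z' g' (e.hom t) (by
    rw [← Scheme.Hom.comp_apply, pullbackRightPullbackFstIso_hom_fst]; exact ht1) (c ⁻¹' V)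
    (c.continuous.continuousAt.preimage_mem_nhds (hct.symm ▸ hV))
  have hcs : c ≫ pullback.snd g g' = pullback.snd (f ≫ g) g' := by rw [Category.assoc]; exact he
  have h2 : pullback.snd (f ≫ g) g' (e.hom t) = pullback.snd g g' y' := by
    rw [← hcs, Scheme.Hom.comp_apply, hct]
  rw [h2] at h1
  refine mem_of_superset h1 ?_
  rintro _ ⟨w, hw, rfl⟩
  exact ⟨c w, hw, by rw [← Scheme.Hom.comp_apply, hcs]⟩

/-- Universal openness at a point descends along a finite family of universally closed morphisms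
which is jointly surjective. -/
theorem isUnivOpenAt_of_closed_cover (f : X ⟶ Y) (x : X) {ι : Type w} [Finite ι] (T : ι → Scheme.{u})
    (v : ∀ i, T i ⟶ Y) [∀ i, UniversallyClosed (v i)] (hcov : ⋃ i, Set.range (v i) = Set.univ)
    (h : ∀ i, ∀ x₁ : ↥(pullback f (v i)), pullback.fst f (v i) x₁ = x →
      EGA43.IsUnivOpenAt (pullback.snd f (v i)) x₁) : EGA43.IsUnivOpenAt f x := by
  intro Y' g x' hx' U hU
  obtain ⟨O, hOU, hO, hxO⟩ := mem_nhds_iff.mp hU
  let y' := pullback.snd f g x'
  let v' := fun i ↦ pullback.fst g (v i)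
  -- for each member, the image contains a neighbourhood of the whole fibre over `y'`
  have key : ∀ i, ∃ O₁ : Set ↥(pullback g (v i)), IsOpen O₁ ∧ v' i ⁻¹' {y'} ⊆ O₁ ∧
      v' i '' O₁ ⊆ pullback.snd f g '' O := by
    intro i
    refine ⟨interior (v' i ⁻¹' (pullback.snd f g '' O)), isOpen_interior, fun y₁ hy₁ ↦ ?_,
      (Set.image_mono interior_subset).trans (Set.image_preimage_subset _ _)⟩
    -- the base change to `Y' ×_Y T i`
    let b := pullback.snd g (v i)
    obtain ⟨p, hp1, hp2⟩ := Scheme.Pullback.exists_preimage_pullback (f := pullback.snd f g) (g := v' i) x' y₁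
      (show y' = v' i y₁ from (Eq.symm hy₁))
    let P := pullback (pullback.snd f g) (v' i)
    let a : P ⟶ pullback f g := pullback.fst _ _
    let r : P ⟶ pullback g (v i) := pullback.snd _ _
    let m : P ⟶ pullback f (v i) := pullback.lift (a ≫ pullback.fst f g) (r ≫ b) (by
      rw [Category.assoc, Category.assoc, pullback.condition (f := f) (g := g), ← Category.assoc,
        pullback.condition (f := pullback.snd f g) (g := v' i), Category.assoc, pullback.condition (f := g) (g := v i)])
    have hm : IsPullback m r (pullback.snd f (v i)) b := by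
      refine IsPullback.of_right ?_ (pullback.lift_snd _ _ _) (IsPullback.of_hasPullback f (v i))
      rw [pullback.lift_fst, show b ≫ v i = v' i ≫ g from pullback.condition.symm]
      exact (IsPullback.of_hasPullback (pullback.snd f g) (v' i)).paste_horiz (IsPullback.of_hasPullback f g)
    have hmx : pullback.fst f (v i) (m p) = x := by
      rw [← Scheme.Hom.comp_apply, pullback.lift_fst, Scheme.Hom.comp_apply, show a p = x' from hp1, hx']
    have h0 := isUnivOpenAt_of_isPullback hm (h i _ hmx) _ (𝟙 _)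
    have hpt : ∀ q : ↥(pullback r (𝟙 (pullback g (v i)))), r (pullback.fst r (𝟙 _) q) = pullback.snd r (𝟙 _) q :=
      fun q ↦ by rw [← Scheme.Hom.comp_apply, pullback.condition, Category.comp_id]
    obtain ⟨q, hq1, hq2⟩ := Scheme.Pullback.exists_preimage_pullback (f := r) (g := 𝟙 _) p y₁
      (show r p = y₁ from hp2)
    have h1 := h0 q hq1 (pullback.fst r (𝟙 _) ⁻¹' (a ⁻¹' O))
      ((hO.preimage a.continuous).preimage (pullback.fst r (𝟙 _)).continuous |>.mem_nhds (by
        show a (pullback.fst r (𝟙 _) q) ∈ O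
        rw [hq1, show a p = x' from hp1]
        exact hxO))
    rw [hq2] at h1
    refine mem_interior_iff_mem_nhds.mpr (mem_of_superset h1 ?_)
    rintro _ ⟨w, hw, rfl⟩
    refine ⟨a (pullback.fst r (𝟙 _) w), hw, ?_⟩
    rw [← hpt w, ← Scheme.Hom.comp_apply, ← Scheme.Hom.comp_apply r, pullback.condition]
  choose O₁ hO₁ hfib hsub using key
  let V : Set Y' := ⋂ i, (v' i '' (O₁ i)ᶜ)ᶜ
  have hV : IsOpen V := isOpen_iInter_of_finite fun i ↦
    ((v' i).isClosedMap _ (hO₁ i).isClosed_compl).isOpen_compl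
  refine mem_of_superset (hV.mem_nhds (Set.mem_iInter.mpr fun i ↦ ?_)) ?_
  · rintro ⟨w, hw, hwy⟩
    exact hw (hfib i hwy)
  · intro y hy
    obtain ⟨i, t, ht⟩ := Set.mem_iUnion.mp (hcov.symm ▸ Set.mem_univ (g y))
    obtain ⟨w, hw1, -⟩ := Scheme.Pullback.exists_preimage_pullback (f := g) (g := v i) y t ht.symm
    refine Set.image_mono hOU (hsub i ⟨w, ?_, hw1⟩)
    by_contra hwO
    exact Set.mem_iInter.mp hy i ⟨w, hwO, hw1⟩

end Groth.Agent.GoingDown
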