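import Groth.Agent.GoingDown.Scheme
import Mathlib.AlgebraicGeometry.Morphisms.UniversallyOpen
import Mathlib.AlgebraicGeometry.FunctionField

/-!
# Going down on discrete valuation rings and dominance of components
-/

universe u

open CategoryTheory AlgebraicGeometry IsLocalRing Limits

namespace Groth.Agent.GoingDown

variable {X Y : Scheme.{u}} {f : X ⟶ Y}

theorem eq_closedPoint_or_dense {R : Type u} [CommRing R] [IsDomain R] [IsDiscreteValuationRing R]
    (q : Spec (CommRingCat.of R)) : q = closedPoint R ∨ closure {q} = Set.univ := by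
  by_cases hq : q.asIdeal = ⊥
  · right
    refine Set.eq_univ_of_forall fun w ↦ specializes_iff_mem_closure.mp
      ((PrimeSpectrum.le_iff_specializes _ _).mp ?_)
    show q.asIdeal ≤ w.asIdeal
    rw [hq]; exact bot_le
  · left
    exact PrimeSpectrum.ext (IsLocalRing.eq_maximalIdeal (IsPrime.to_maximal_ideal hq))

/-- Going down at all points over `y` says that the components of every base change to a discrete
valuation ring at `y` dominate it. -/
theorem forall_dvrGoingDown_iff (y : Y) :
    (∀ x : X, f x = y → DvrGoingDown f x) ↔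
      ∀ (A : Type u) [CommRing A] [IsDomain A] [IsDiscreteValuationRing A]
        (g : Spec (CommRingCat.of A) ⟶ Y), g (closedPoint A) = y →
        ∀ Z ∈ irreducibleComponents (↥(pullback f g) : Type u),
          Dense (pullback.snd f g '' Z) := by
  constructor
  · intro H A _ _ _ g hg Z hZ
    have hgen := hZ.1.isGenericPoint_genericPoint (isClosed_of_mem_irreducibleComponents Z hZ)
    set ξ := hZ.1.genericPoint
    rcases eq_closedPoint_or_dense (pullback.snd f g ξ) with hc | hd
    · exfalso
      have hx : f (pullback.fst f g ξ) = y := by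
        rw [← Scheme.Hom.comp_apply, pullback.condition, Scheme.Hom.comp_apply, hc, hg]
      obtain ⟨z, hz, hzc⟩ := H _ hx A g (hg.trans hx.symm) ξ rfl hc
      have hle : Z ⊆ closure {z} := fun w hw ↦
        specializes_iff_mem_closure.mp (hz.trans (hgen.specializes hw))
      have heq : closure {z} = Z := le_antisymm (hZ.2 isIrreducible_singleton.closure hle) hle
      exact hzc ((IsGenericPoint.eq (heq : IsGenericPoint z Z) hgen).symm ▸ hc)
    · rw [dense_iff_closure_eq, ← Set.univ_subset_iff, ← hd]
      exact closure_mono (Set.singleton_subset_iff.mpr ⟨ξ, hgen.mem, rfl⟩)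
  · intro H x hx A _ _ _ g hg x' _ _
    obtain ⟨Z, hZ, hxZ⟩ : ∃ Z ∈ irreducibleComponents (↥(pullback f g) : Type u), x' ∈ Z :=
      ⟨_, irreducibleComponent_mem_irreducibleComponents x', mem_irreducibleComponent⟩
    have hgen := hZ.1.isGenericPoint_genericPoint (isClosed_of_mem_irreducibleComponents Z hZ)
    set ξ := hZ.1.genericPoint
    refine ⟨ξ, hgen.specializes hxZ, fun hc ↦ ?_⟩
    have hd := (H A g (hg.trans hx) Z hZ)
    rw [dense_iff_closure_eq] at hd
    have hsub : pullback.snd f g '' Z ⊆ {closedPoint A} := by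
      rintro _ ⟨w, hw, rfl⟩
      have h1 := (hgen.specializes hw).map (pullback.snd f g).continuous
      rw [hc] at h1
      exact (isClosed_singleton_closedPoint A).stableUnderSpecialization h1 rfl
    have h2 : (Set.univ : Set (PrimeSpectrum A)) ⊆ {closedPoint A} :=
      hd ▸ (closure_minimal hsub (isClosed_singleton_closedPoint A))
    have h3 : (⟨⊥, Ideal.isPrime_bot⟩ : PrimeSpectrum A) = closedPoint A := h2 (Set.mem_univ _)
    exact IsDiscreteValuationRing.not_a_field A (congrArg PrimeSpectrum.asIdeal h3).symm

theorem universallyOpen_iff_forall_isUnivOpenAt :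
    UniversallyOpen f ↔ ∀ x, EGA43.IsUnivOpenAt f x := by
  constructor
  · intro h x Y' g x' _ U hU
    have : UniversallyOpen (pullback.snd f g) :=
      MorphismProperty.pullback_snd (P := (@UniversallyOpen : MorphismProperty Scheme.{u})) _ _ h
    exact ((pullback.snd f g).isOpenMap).image_mem_nhds hU
  · intro H
    refine ⟨fun X' Y' i₁ i₂ f' hpb ↦ ?_⟩
    show IsOpenMap f'
    refine IsOpenMap.of_nhds_le fun z ↦ Filter.le_map fun U hU ↦ ?_
    let e := hpb.flip.isoPullback
    have h1 : e.hom ≫ pullback.snd f i₂ = f' := hpb.flip.isoPullback_hom_snd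
    have h2 := H _ Y' i₂ (e.hom z) rfl (e.hom '' U)
      (e.hom.homeomorph.isOpenMap.image_mem_nhds hU)
    have h3 : (pullback.snd f i₂) (e.hom z) = f' z := by rw [← Scheme.Hom.comp_apply, h1]
    rw [h3, ← Set.image_comp] at h2
    refine Filter.mem_of_superset h2 ?_
    rintro _ ⟨w, hw, rfl⟩
    exact ⟨w, hw, by rw [Function.comp_apply, ← Scheme.Hom.comp_apply, h1]⟩

end Groth.Agent.GoingDown
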