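import Groth.Agent.GoingDown.Components
import Mathlib.AlgebraicGeometry.AffineSpace
import Mathlib.RingTheory.MvPolynomial.Basic
import Mathlib

/-!
# Universal openness is tested on affine spaces
-/

universe u

open CategoryTheory AlgebraicGeometry Limits TensorProduct

namespace Groth.Agent.GoingDown

variable {A B D : Type u} [CommRing A] [CommRing B] [CommRing D] [Algebra A B] [Algebra A D]

/-- Openness of `Spec (D ⊗ B) → Spec D` for all `D` follows from polynomial rings. -/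
theorem isOpenMap_comap_of_mvPolynomial
    (H : ∀ n : ℕ, IsOpenMap (PrimeSpectrum.comap (algebraMap (MvPolynomial (ULift.{u} (Fin (n + 1))) A)
      (MvPolynomial (ULift.{u} (Fin (n + 1))) A ⊗[A] B)))) :
    IsOpenMap (PrimeSpectrum.comap (algebraMap D (D ⊗[A] B))) := by
  rw [PrimeSpectrum.isTopologicalBasis_basic_opens.isOpenMap_iff]
  rintro _ ⟨s, rfl⟩
  obtain ⟨S, hS⟩ := TensorProduct.exists_finset s
  let n := S.card
  let M := MvPolynomial (ULift.{u} (Fin (n + 1))) A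
  let d : ULift.{u} (Fin (n + 1)) → D := fun i ↦ if h : (i.down : ℕ) < n then (S.equivFin.symm ⟨i.down, h⟩).1.1 else 0
  let ψ : M →ₐ[A] D := MvPolynomial.aeval d
  letI : Algebra M D := ψ.toRingHom.toAlgebra
  haveI : IsScalarTower A M D := IsScalarTower.of_algebraMap_eq fun a ↦ (ψ.commutes a).symm
  let μ := Algebra.TensorProduct.map (IsScalarTower.toAlgHom A M D) (AlgHom.id A B)
  let s₀ : M ⊗[A] B := ∑ i : S, MvPolynomial.X ⟨(S.equivFin i).castSucc⟩ ⊗ₜ[A] i.1.2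
  have hs₀ : μ s₀ = s := by
    rw [hS, map_sum, ← Finset.sum_coe_sort S]
    refine Finset.sum_congr rfl fun i _ ↦ ?_
    rw [Algebra.TensorProduct.map_tmul]
    congr 1
    show MvPolynomial.aeval d (MvPolynomial.X _) = _
    rw [MvPolynomial.aeval_X]
    simp [d, n]
  suffices PrimeSpectrum.comap (algebraMap D (D ⊗[A] B)) '' (PrimeSpectrum.basicOpen s) =
      PrimeSpectrum.comap ψ.toRingHom ⁻¹'
        (PrimeSpectrum.comap (algebraMap M (M ⊗[A] B)) '' (PrimeSpectrum.basicOpen s₀)) by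
    rw [this]
    exact (H n _ (PrimeSpectrum.basicOpen s₀).2).preimage (PrimeSpectrum.continuous_comap _)
  ext q
  constructor
  · rintro ⟨P, hP, rfl⟩
    refine ⟨PrimeSpectrum.comap μ.toRingHom P, fun h ↦ hP (hs₀ ▸ h), ?_⟩
    apply PrimeSpectrum.ext
    ext m
    show μ (algebraMap M (M ⊗[A] B) m) ∈ P.asIdeal ↔ algebraMap D (D ⊗[A] B) (ψ m) ∈ P.asIdeal
    rw [Algebra.TensorProduct.algebraMap_apply, Algebra.TensorProduct.map_tmul]
    rfl
  · rintro ⟨P₀, hP₀, hPq⟩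
    obtain ⟨P, hP, hPD, hPM⟩ := exists_prime_tensor P₀.asIdeal q.asIdeal
      (congrArg PrimeSpectrum.asIdeal hPq).symm
    refine ⟨⟨P, hP⟩, fun h ↦ hP₀ ?_, PrimeSpectrum.ext hPD⟩
    show s₀ ∈ P₀.asIdeal
    rw [← hPM]
    show μ s₀ ∈ P
    rw [hs₀]
    exact h

variable {X Y : Scheme.{u}}

/-- A morphism is universally open once its base changes to affine spaces are open. -/
theorem universallyOpen_of_affineSpace (f : X ⟶ Y)
    (h : ∀ n : ℕ, IsOpenMap (pullback.snd f (AffineSpace (ULift.{u} (Fin (n + 1))) Y ↘ Y))) :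
    UniversallyOpen f := by
  rw [universallyOpen_iff_forall_isUnivOpenAt]
  intro x Y' g x' hx' U hU
  obtain ⟨SV, hSV, hyV, -⟩ := Y.isBasis_affineOpens.exists_subset_of_mem_open
    (Set.mem_univ (f x)) isOpen_univ
  obtain ⟨V, hV, rfl⟩ : ∃ U : Y.Opens, IsAffineOpen U ∧ (U : Set Y) = SV := hSV
  obtain ⟨SW, hSW, hxW, hWV⟩ := X.isBasis_affineOpens.exists_subset_of_mem_open
    (show x ∈ f ⁻¹ᵁ V from hyV) (f ⁻¹ᵁ V).2
  obtain ⟨W, hW, rfl⟩ : ∃ U : X.Opens, IsAffineOpen U ∧ (U : Set X) = SW := hSW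
  have hy'V : pullback.snd f g x' ∈ g ⁻¹ᵁ V := by
    show g (pullback.snd f g x') ∈ V
    rw [← Scheme.Hom.comp_apply, ← pullback.condition, Scheme.Hom.comp_apply, hx']
    exact hyV
  obtain ⟨SV', hSV', hy'V', hV'V⟩ := Y'.isBasis_affineOpens.exists_subset_of_mem_open
    hy'V (g ⁻¹ᵁ V).2
  obtain ⟨V', hV', rfl⟩ : ∃ U : Y'.Opens, IsAffineOpen U ∧ (U : Set Y') = SV' := hSV'
  let := (f.appLE V W hWV).hom.toAlgebra
  let := (g.appLE V V' hV'V).hom.toAlgebra
  have H : ∀ n : ℕ, IsOpenMap (PrimeSpectrum.comap (algebraMap (MvPolynomial (ULift.{u} (Fin (n + 1))) Γ(Y, V))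
      (MvPolynomial (ULift.{u} (Fin (n + 1))) Γ(Y, V) ⊗[Γ(Y, V)] Γ(X, W)))) := by
    intro n
    let ι := ULift.{u} (Fin (n + 1))
    let D₀ := MvPolynomial ι Γ(Y, V)
    let v : Spec (CommRingCat.of D₀) ⟶ AffineSpace ι Y :=
      (AffineSpace.SpecIso ι Γ(Y, V)).inv ≫ AffineSpace.map ι hV.fromSpec
    have : IsOpenImmersion (AffineSpace.map ι hV.fromSpec) :=
      MorphismProperty.IsStableUnderBaseChange.of_isPullback (P := (@IsOpenImmersion : MorphismProperty Scheme.{u}))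
        (AffineSpace.isPullback_map hV.fromSpec).flip inferInstance
    have hv : v ≫ (AffineSpace ι Y ↘ Y) = Spec.map (CommRingCat.ofHom (algebraMap Γ(Y, V) D₀)) ≫ hV.fromSpec := by
      rw [Category.assoc, AffineSpace.map_over, AffineSpace.SpecIso_inv_over_assoc]
      rfl
    obtain ⟨j, hj, hjfst, hjsnd, hjr⟩ := exists_chart (f := f) (g := AffineSpace ι Y ↘ Y) (A := Γ(Y, V))
      (B := Γ(X, W)) (D := D₀) hW.fromSpec hV.fromSpec v
      (IsAffineOpen.SpecMap_appLE_fromSpec f hV hW hWV).symm hv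
    intro O hO
    have h1 : IsOpen (v '' (PrimeSpectrum.comap (algebraMap D₀ (D₀ ⊗[Γ(Y, V)] Γ(X, W))) '' O)) := by
      have : v '' (PrimeSpectrum.comap (algebraMap D₀ (D₀ ⊗[Γ(Y, V)] Γ(X, W))) '' O) =
          pullback.snd f (AffineSpace ι Y ↘ Y) '' (j '' O) := by
        ext z
        constructor
        · rintro ⟨_, ⟨p, hp, rfl⟩, rfl⟩
          exact ⟨j p, ⟨p, hp, rfl⟩, (Scheme.Hom.comp_apply _ _ _).symm.trans ((congr($hjsnd p)).trans (Scheme.Hom.comp_apply _ _ _))⟩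
        · rintro ⟨_, ⟨p, hp, rfl⟩, rfl⟩
          exact ⟨_, ⟨p, hp, rfl⟩, ((Scheme.Hom.comp_apply _ _ _).symm.trans ((congr($hjsnd p)).trans (Scheme.Hom.comp_apply _ _ _))).symm⟩
      rw [this]
      exact h n _ (j.isOpenEmbedding.isOpenMap _ hO)
    have h2 := h1.preimage v.continuous
    rwa [Set.preimage_image_eq _ v.isOpenEmbedding.injective] at h2
  obtain ⟨j, hj, hjfst, hjsnd, hjr⟩ := exists_chart (f := f) (g := g) (A := Γ(Y, V))
    (B := Γ(X, W)) (D := Γ(Y', V')) hW.fromSpec hV.fromSpec hV'.fromSpec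
    (IsAffineOpen.SpecMap_appLE_fromSpec f hV hW hWV).symm
    (IsAffineOpen.SpecMap_appLE_fromSpec g hV hV' hV'V).symm
  obtain ⟨p, rfl⟩ : x' ∈ Set.range j := by
    rw [hjr, hW.range_fromSpec, hV'.range_fromSpec]
    refine ⟨?_, hy'V'⟩
    show pullback.fst f g x' ∈ W
    rw [hx']; exact hxW
  have hkey : ∀ q, pullback.snd f g (j q) =
      hV'.fromSpec (PrimeSpectrum.comap (algebraMap Γ(Y', V') _) q) := fun q ↦ by
    rw [← Scheme.Hom.comp_apply, hjsnd]
    exact Scheme.Hom.comp_apply _ _ _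
  rw [hkey p]
  refine Filter.mem_of_superset (hV'.fromSpec.isOpenEmbedding.isOpenMap.image_mem_nhds
    ((isOpenMap_comap_of_mvPolynomial H).image_mem_nhds (j.continuous.continuousAt.preimage_mem_nhds hU))) ?_
  rintro _ ⟨_, ⟨Q, hQ, rfl⟩, rfl⟩
  exact ⟨j Q, hQ, hkey Q⟩

end Groth.Agent.GoingDown
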