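import Groth.Agent.GoingDown.Algebra
import Groth.Agent.GoingDown.AtPoint
import Groth.Agent.Unibranch.LiftDim

/-!
# Universal openness at a point can be tested on the local scheme of the base
-/

set_option linter.style.haveILetI false
universe u

open CategoryTheory AlgebraicGeometry Limits Topology

namespace Groth.Agent.GoingDown

variable {X Y : Scheme.{u}}

/-- For a morphism locally of finite presentation, openness at a point is the lifting of generisations. -/
theorem isOpenAt_of_forall_generization (f : X ⟶ Y) [LocallyOfFinitePresentation f] (x : X)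
    (h : ∀ U : X.Opens, x ∈ U → ∀ η, η ⤳ f x → η ∈ f '' (U : Set X)) : EGA43.IsOpenAt f x := by
  intro N hN
  obtain ⟨O, hON, hO, hxO⟩ := mem_nhds_iff.mp hN
  obtain ⟨SV, hSV, hyV, -⟩ := Y.isBasis_affineOpens.exists_subset_of_mem_open (Set.mem_univ (f x)) isOpen_univ
  obtain ⟨V, hV, rfl⟩ : ∃ U : Y.Opens, IsAffineOpen U ∧ (U : Set Y) = SV := hSV
  obtain ⟨SW, hSW, hxW, hWV⟩ := X.isBasis_affineOpens.exists_subset_of_mem_open
    (show x ∈ O ∩ f ⁻¹' (V : Set Y) from ⟨hxO, hyV⟩) (hO.inter (V.isOpen.preimage f.continuous))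
  obtain ⟨W, hW, rfl⟩ : ∃ U : X.Opens, IsAffineOpen U ∧ (U : Set X) = SW := hSW
  haveI : IsAffine W.toScheme := hW
  let φ : W.toScheme ⟶ Spec Γ(Y, V) := f.resLE V W (fun w hw => (hWV hw).2) ≫ hV.isoSpec.hom
  have hφ : φ ≫ hV.fromSpec = W.ι ≫ f := by
    simp only [φ, Category.assoc, IsAffineOpen.isoSpec_hom_fromSpec, Scheme.Hom.resLE_comp_ι]
  haveI : LocallyOfFinitePresentation (f.resLE V W (fun w hw => (hWV hw).2)) := inferInstance
  have hC : IsConstructible (φ '' Set.univ) := φ.isConstructible_image IsConstructible.univ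
  obtain ⟨q, hq⟩ : f x ∈ Set.range hV.fromSpec := by rw [hV.range_fromSpec]; exact hyV
  have hmem : φ '' Set.univ ∈ nhds q := mem_nhds_of_isConstructible hC fun q₀ hle => by
    have hs : hV.fromSpec q₀ ⤳ f x := hq ▸ ((PrimeSpectrum.le_iff_specializes q₀ q).mp hle).map hV.fromSpec.continuous
    obtain ⟨w, hw, hwe⟩ := h W hxW _ hs
    refine ⟨⟨w, hw⟩, trivial, hV.fromSpec.isOpenEmbedding.injective ?_⟩
    rw [← Scheme.Hom.comp_apply, hφ, Scheme.Hom.comp_apply]
    exact hwe
  refine Filter.mem_of_superset (hq ▸ hV.fromSpec.isOpenEmbedding.isOpenMap.image_mem_nhds hmem) ?_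
  rintro _ ⟨_, ⟨w, -, rfl⟩, rfl⟩
  refine ⟨W.ι w, hON (hWV w.2).1, ?_⟩
  rw [← Scheme.Hom.comp_apply, ← hφ, Scheme.Hom.comp_apply]

theorem exists_factor_fromSpecStalk {R : CommRingCat.{u}} [IsLocalRing R] (a : Spec R ⟶ Y) (y : Y)
    (h : a (IsLocalRing.closedPoint R) = y) : ∃ b : Spec R ⟶ Spec (Y.presheaf.stalk y), b ≫ Y.fromSpecStalk y = a := by
  subst h
  exact ⟨_, Scheme.Spec_stalkClosedPointTo_fromSpecStalk a⟩

theorem isUnivOpenAt_iff_fromSpecStalk (f : X ⟶ Y) [LocallyOfFinitePresentation f] (x : X)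
    (x₁ : ↥(pullback f (Y.fromSpecStalk (f x))))
    (hx₁ : pullback.fst f (Y.fromSpecStalk (f x)) x₁ = x) :
    EGA43.IsUnivOpenAt f x ↔ EGA43.IsUnivOpenAt (pullback.snd f (Y.fromSpecStalk (f x))) x₁ := by
  refine ⟨fun h => isUnivOpenAt_of_isPullback (IsPullback.of_hasPullback _ _) (by rw [hx₁]; exact h), fun h => ?_⟩
  intro Y' g x' hx'
  let π := pullback.snd f g
  let t := Y'.fromSpecStalk (π x')
  have hgy : g (π x') = f x := by
    rw [← Scheme.Hom.comp_apply, ← pullback.condition, Scheme.Hom.comp_apply, hx']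
  obtain ⟨b, hb⟩ := exists_factor_fromSpecStalk (t ≫ g) (f x) (by
    rw [Scheme.Hom.comp_apply, Scheme.fromSpecStalk_closedPoint]; exact hgy)
  obtain ⟨x'', hx''1, hx''2⟩ := Scheme.Pullback.exists_preimage_pullback (f := π) (g := t) x'
    (IsLocalRing.closedPoint _) Scheme.fromSpecStalk_closedPoint.symm
  have hP : IsPullback (pullback.fst π t ≫ pullback.fst f g) (pullback.snd π t) f (t ≫ g) :=
    ((IsPullback.of_hasPullback π t).flip.paste_vert (IsPullback.of_hasPullback f g).flip).flip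
  let k : pullback π t ⟶ pullback f (Y.fromSpecStalk (f x)) :=
    pullback.lift (pullback.fst π t ≫ pullback.fst f g) (pullback.snd π t ≫ b) (by rw [Category.assoc _ b, hb]; exact hP.w)
  have hk : IsPullback k (pullback.snd π t) (pullback.snd f (Y.fromSpecStalk (f x))) b := by
    refine IsPullback.of_right (by rw [pullback.lift_fst, hb]; exact hP) (pullback.lift_snd _ _ _) ?_
    exact IsPullback.of_hasPullback _ _
  have hkx : k x'' = x₁ := by
    refine (pullback.fst f (Y.fromSpecStalk (f x))).isEmbedding.injective ?_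
    rw [← Scheme.Hom.comp_apply, pullback.lift_fst, Scheme.Hom.comp_apply, hx''1, hx', hx₁]
  have hopen := Groth.Agent.Unibranch.isOpenAt_of_isUnivOpenAt _ _ (isUnivOpenAt_of_isPullback hk (hkx ▸ h))
  refine isOpenAt_of_forall_generization π x' fun U hU η hη => ?_
  have himg := hopen _ ((U.isOpen.preimage (pullback.fst π t).continuous).mem_nhds (hx''1.symm ▸ hU : pullback.fst π t x'' ∈ U))
  rw [hx''2] at himg
  obtain ⟨τ, hτ⟩ : η ∈ Set.range t := by rw [Scheme.range_fromSpecStalk]; exact hη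
  obtain ⟨N, hN, hNo, hcN⟩ := mem_nhds_iff.mp himg
  obtain ⟨p, hp, hpe⟩ := hN ((IsLocalRing.specializes_closedPoint τ).mem_open hNo hcN)
  refine ⟨pullback.fst π t p, hp, ?_⟩
  rw [← Scheme.Hom.comp_apply, pullback.condition, Scheme.Hom.comp_apply, hpe, hτ]

end Groth.Agent.GoingDown
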